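import Cfsg.Agent.H945.UF.Base

/-!
# The pair lemma for the cross characteristic sections (helper945, S3461)

* `CandU.pair`: `T`, `N` element orders of `S`, `M ∣ T`, `N` prime to `M`, `(T - N)² ≤ 5 T`; then `PairOut p q T N`;
* `CandU.not_pair_one`: the special case `|T - N| ∈ {1, 2}`: then `T = N + 1` and `2 T = q² + 1`;
* `CandU.rest`: `T = H R`, `M ∣ H`: then `2 R + 1 ≤ q`, `q² + 1 ≤ 2 H`;
* `CandU.triple`: three pairwise coprime element orders prime to `M` have product at most `q⁵`.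
-/

set_option autoImplicit false

namespace Cfsg.Agent.H945.UF

open Cfsg

/-- the exceptional pairs, `q ≤ 23` -/
def excPairs : List (ℕ × ℕ) := [(25, 14), (25, 16), (75, 56), (75, 86), (61, 44), (305, 333), (1629, 1715), (265, 234)]

/-- the outcome of the pair lemma -/
def PairOut (p q T N : ℕ) : Prop :=
  (2 * T = q ^ 2 + 1 ∧ 2 * N + 1 = q ^ 2) ∨ (p = q ∧ 2 * T = q ^ 2 + 1 ∧ 2 * N + q = q ^ 2) ∨
    (p = q ∧ ∃ a : ℕ, a % 2 = 1 ∧ 2 * T = a * (q ^ 2 + 1) ∧ 2 * N = a * (q ^ 2 + q)) ∨ (T, N) ∈ excPairs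

/-- the finite check -/
def Chk (q : ℕ) : Prop :=
  ∀ a ∈ Nat.divisors ((q - 1) / 2), ∀ N ∈ Nat.divisors ((q ^ 3 + 1) / 4) ∪ Nat.divisors (q ^ 2 - 1) ∪
    Nat.divisors (q * (q ^ 2 - 1) / 4) ∪ Nat.divisors (q * (q + 1)),
    ((a * (q ^ 2 + 1) : ℕ) - (2 * N : ℕ) : ℤ) ^ 2 ≤ 10 * (a * (q ^ 2 + 1) : ℕ) →
    (2 * (a * mm q) = q ^ 2 + 1 ∧ 2 * N + 1 = q ^ 2) ∨ (2 * (a * mm q) = q ^ 2 + 1 ∧ 2 * N + q = q ^ 2) ∨
      2 * N = a * (q ^ 2 + q) ∨ (a * mm q, N) ∈ excPairs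

instance (q : ℕ) : Decidable (Chk q) := by unfold Chk; infer_instance

theorem chk7 : Chk 7 := by decide +kernel
theorem chk11 : Chk 11 := by decide +kernel
theorem chk19 : Chk 19 := by decide +kernel
theorem chk23 : Chk 23 := by decide +kernel

namespace CandU

variable {p q : ℕ} {S : Type*} [Group S] (h : CandU p q S)

include h

theorem q_cases : (p = q ∧ (q = 7 ∨ q = 11 ∨ q = 19 ∨ q = 23)) ∨ (27 ≤ q ∧ q ≠ 27) := by
  have h1 := h.q_ge
  have h4 := h.h4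
  have hp := h.hp
  rcases Nat.lt_or_ge q 27 with h2 | h2
  · left
    have hpq : p = q := by
      rcases h.p_cases with h3 | h3
      · exact h3
      · have := h.h5; omega
    refine ⟨hpq, ?_⟩
    rw [hpq] at hp
    have h3 : q = 7 ∨ q = 11 ∨ q = 15 ∨ q = 19 ∨ q = 23 := by omega
    rcases h3 with rfl | rfl | rfl | rfl | rfl
    · exact Or.inl rfl
    · exact Or.inr (Or.inl rfl)
    · norm_num at hp
    · exact Or.inr (Or.inr (Or.inl rfl))
    · exact Or.inr (Or.inr (Or.inr rfl))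
  · right
    refine ⟨h2, ?_⟩
    rintro rfl
    have h3 : p ∣ 27 := h.p_dvd
    have h5 : p ∣ 3 := hp.dvd_of_dvd_pow (n := 3) h3
    have := Nat.le_of_dvd (by norm_num) h5
    have := h.h5
    omega

/-- **the pair lemma** -/
theorem pair {T N : ℕ} (hT : ∃ x : S, orderOf x = T) (hMT : mm q ∣ T) (hN : ∃ x : S, orderOf x = N)
    (hN0 : N ≠ 0) (hNM : Nat.Coprime N (mm q)) (hK : ((T : ℤ) - N) ^ 2 ≤ 5 * T) : PairOut p q T N := by
  obtain ⟨a, i, rfl, hai, hao, ha1, hi1⟩ := h.tor hT hMT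
  have hq7 := h.q_ge
  have hfree := h.free hN hNM
  have hmm := h.two_mm
  have hK' : ((a * (q ^ 2 + 1) : ℕ) - (2 * N : ℕ) : ℤ) ^ 2 ≤ 10 * (a * (q ^ 2 + 1) : ℕ) := by
    have h1 : ((a * (q ^ 2 + 1) : ℕ) : ℤ) = 2 * ((a * mm q : ℕ) : ℤ) := by
      rw [← hmm]; push_cast; ring
    rw [h1]
    push_cast at hK ⊢
    nlinarith
  rcases h.q_cases with ⟨hpq, hq⟩ | ⟨hq27, hq27'⟩
  · -- the finite check
    have hchk : Chk q := by
      rcases hq with rfl | rfl | rfl | rfl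
      · exact chk7
      · exact chk11
      · exact chk19
      · exact chk23
    have ha : a ∈ Nat.divisors ((q - 1) / 2) := by
      rw [Nat.mem_divisors]
      refine ⟨⟨i, by omega⟩, by omega⟩
    have h3 : 0 < q ^ 2 - 1 := by
      have : 7 ^ 2 ≤ q ^ 2 := Nat.pow_le_pow_left hq7 2
      omega
    have h3' : 0 < q ^ 3 + 1 := by positivity
    have hA : (q ^ 3 + 1) / 4 ≠ 0 := by have := h.four_A; omega
    have hD : q * (q ^ 2 - 1) / 4 ≠ 0 := by
      have h4 := h.four_D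
      rw [hpq] at h4
      have : 0 < q * (q ^ 2 - 1) := by positivity
      omega
    have hE : q * (q + 1) ≠ 0 := by positivity
    have hNm : N ∈ Nat.divisors ((q ^ 3 + 1) / 4) ∪ Nat.divisors (q ^ 2 - 1) ∪
        Nat.divisors (q * (q ^ 2 - 1) / 4) ∪ Nat.divisors (q * (q + 1)) := by
      simp only [Finset.mem_union, Nat.mem_divisors]
      rw [hpq] at hfree
      rcases hfree with h4 | h4 | h4 | h4
      · exact Or.inl (Or.inl (Or.inl ⟨h4, hA⟩))
      · exact Or.inl (Or.inl (Or.inr ⟨h4, h3.ne'⟩))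
      · exact Or.inl (Or.inr ⟨h4, hD⟩)
      · exact Or.inr ⟨h4, hE⟩
    rcases hchk a ha N hNm hK' with h4 | h4 | h4 | h4
    · exact Or.inl h4
    · exact Or.inr (Or.inl ⟨hpq, h4⟩)
    · refine Or.inr (Or.inr (Or.inl ⟨hpq, a, hao, ?_, h4⟩))
      rw [← hmm]; ring
    · exact Or.inr (Or.inr (Or.inr h4))
  · -- the general case
    have hqZ : (27 : ℤ) ≤ q := by exact_mod_cast hq27
    have hqZ' : (q : ℤ) ≠ 27 := by exact_mod_cast hq27'
    have h4Z : (q : ℤ) % 4 = 3 := by have := h.h4; omega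
    have haZ : (1 : ℤ) ≤ a := by exact_mod_cast ha1
    have haoZ : (a : ℤ) % 2 = 1 := by omega
    have hiZ : (1 : ℤ) ≤ i := by exact_mod_cast hi1
    have haiZ : 2 * ((a : ℤ) * i) = q - 1 := by
      have : ((2 * (a * i) : ℕ) : ℤ) = ((q - 1 : ℕ) : ℤ) := by rw [hai]
      rw [Nat.cast_sub (by omega)] at this
      push_cast at this
      exact this
    have hKZ : ((a : ℤ) * ((q : ℤ) ^ 2 + 1) - 2 * N) ^ 2 ≤ 10 * (a * ((q : ℤ) ^ 2 + 1)) := by
      push_cast at hK'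
      exact hK'
    have hpos2 : 1 ≤ q ^ 2 := Nat.one_le_pow _ _ (by omega)
    have hsqZ : ((q ^ 2 - 1 : ℕ) : ℤ) = (q : ℤ) ^ 2 - 1 := by push_cast [hpos2]; rfl
    rcases hfree with h4 | h4 | h4 | h4
    · exfalso
      obtain ⟨j, hj⟩ := h4
      have hj0 : j ≠ 0 := by
        rintro rfl
        have := h.four_A
        omega
      have e : N * (4 * j) = q ^ 3 + 1 := by rw [← h.four_A, hj]; ring
      refine pairA hqZ h4Z haZ hiZ haiZ (j := j) (by exact_mod_cast Nat.pos_of_ne_zero hj0) ?_ hKZ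
      exact_mod_cast e
    · obtain ⟨m, hm⟩ := h4
      have hm0 : m ≠ 0 := by
        rintro rfl
        have : 27 ^ 2 ≤ q ^ 2 := Nat.pow_le_pow_left hq27 2
        omega
      have e : (N : ℤ) * m = (q : ℤ) ^ 2 - 1 := by rw [← hsqZ, hm]; push_cast; ring
      obtain ⟨h5, h6⟩ := pairC hqZ haZ haoZ (m := m) (by exact_mod_cast Nat.pos_of_ne_zero hm0) e hKZ
      left
      have h7 : a = 1 := by exact_mod_cast h5
      subst h7
      refine ⟨by rw [one_mul]; exact hmm, ?_⟩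
      have h8 : ((2 * N + 1 : ℕ) : ℤ) = ((q ^ 2 : ℕ) : ℤ) := by push_cast; linarith
      exact_mod_cast h8
    · obtain ⟨j, hj⟩ := h4
      have hj0 : j ≠ 0 := by
        rintro rfl
        have h9 := h.four_D
        rw [hj, mul_zero, mul_zero] at h9
        have : 27 ^ 2 ≤ q ^ 2 := Nat.pow_le_pow_left hq27 2
        have h10 : 0 < p * (q ^ 2 - 1) := Nat.mul_pos h.hp.pos (by omega)
        omega
      have e0 : N * (4 * j) = p * (q ^ 2 - 1) := by rw [← h.four_D, hj]; ring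
      have e : (N : ℤ) * (4 * j) = p * ((q : ℤ) ^ 2 - 1) := by rw [← hsqZ]; exact_mod_cast e0
      have hjZ : (1 : ℤ) ≤ j := by exact_mod_cast Nat.pos_of_ne_zero hj0
      rcases h.p_cases with hpq | hpq
      · rw [hpq] at e
        rcases pairD hqZ hqZ' h4Z haZ haoZ haiZ hjZ e hKZ with ⟨h5, h6⟩ | h6
        · refine Or.inr (Or.inl ⟨hpq, ?_, ?_⟩)
          · have h7 : a = 1 := by exact_mod_cast h5
            rw [h7, one_mul]; exact hmm
          · have h8 : ((2 * N + q : ℕ) : ℤ) = ((q ^ 2 : ℕ) : ℤ) := by push_cast; linarith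
            exact_mod_cast h8
        · refine Or.inr (Or.inr (Or.inl ⟨hpq, a, hao, by rw [← hmm]; ring, ?_⟩))
          have h8 : ((2 * N : ℕ) : ℤ) = ((a * (q ^ 2 + q) : ℕ) : ℤ) := by push_cast; linarith
          exact_mod_cast h8
      · exfalso
        exact pairD' hqZ (by exact_mod_cast h.seven_le_p) (by exact_mod_cast hpq) haZ hjZ e hKZ
          (by have := h.podd; omega)
    · rcases h.p_cases with hpq | hpq
      · obtain ⟨j, hj⟩ := h4
        have hj0 : j ≠ 0 := by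
          rintro rfl
          rw [mul_zero] at hj
          have : 0 < p * (q + 1) := Nat.mul_pos h.hp.pos (by omega)
          omega
        rw [hpq] at hj
        have e : (N : ℤ) * j = q * (q + 1) := by exact_mod_cast hj.symm
        have h6 := pairE hqZ haZ haoZ (j := j) (by exact_mod_cast Nat.pos_of_ne_zero hj0) e hKZ
        refine Or.inr (Or.inr (Or.inl ⟨hpq, a, hao, by rw [← hmm]; ring, ?_⟩))
        have h8 : ((2 * N : ℕ) : ℤ) = ((a * (q ^ 2 + q) : ℕ) : ℤ) := by push_cast; linarith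
        exact_mod_cast h8
      · exfalso
        have h6 : N ≤ p * (q + 1) := Nat.le_of_dvd (Nat.mul_pos h.hp.pos (by omega)) h4
        exact pairE' (p := (p : ℤ)) hqZ (by exact_mod_cast hpq) haZ (by positivity) (by exact_mod_cast h6) hKZ

/-- **twins**: `|T - N| ∈ {1, 2}` -/
theorem twin {T N : ℕ} (hT : ∃ x : S, orderOf x = T) (hMT : mm q ∣ T) (hN : ∃ x : S, orderOf x = N)
    (hNM : Nat.Coprime N (mm q)) (hd : T ≤ N + 2) (hd' : N ≤ T + 2) (hne : T ≠ N) : T = N + 1 ∧ 2 * T = q ^ 2 + 1 := by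
  have hT25 : 25 ≤ T := by
    obtain ⟨a, i, rfl, -, -, ha1, -⟩ := h.tor hT hMT
    have := h.mm_ge
    calc 25 = 1 * 25 := rfl
      _ ≤ a * mm q := Nat.mul_le_mul ha1 this
  have hK : ((T : ℤ) - N) ^ 2 ≤ 5 * T := by
    have h1 : -2 ≤ (T : ℤ) - N := by omega
    have h2 : (T : ℤ) - N ≤ 2 := by omega
    nlinarith
  have hq := h.q_ge
  have hq2 : q ^ 2 = q * q := sq q
  rcases h.pair hT hMT hN (by omega) hNM hK with ⟨h1, h2⟩ | ⟨-, h1, h2⟩ | ⟨-, a, ha, h1, h2⟩ | h1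
  · exact ⟨by omega, h1⟩
  · exfalso; omega
  · exfalso
    have h3 : 2 * N + a = 2 * T + a * q := by rw [h1, h2]; ring
    have h4 : 1 ≤ a := by omega
    have h5 : a * 7 ≤ a * q := Nat.mul_le_mul_left _ hq
    omega
  · exfalso
    simp only [excPairs, List.mem_cons, Prod.mk.injEq, List.not_mem_nil, or_false] at h1
    omega

/-- the cofactor -/
theorem rest {T H R : ℕ} (hT : ∃ x : S, orderOf x = T) (hTR : T = H * R) (hM : mm q ∣ H) (hH : H ≠ 0) :
    2 * R + 1 ≤ q ∧ q ^ 2 + 1 ≤ 2 * H ∧ ∃ b : ℕ, H = b * mm q ∧ b * R ∣ (q - 1) / 2 := by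
  obtain ⟨b, rfl⟩ := hM
  obtain ⟨r, hr, hrM⟩ := h.exists_prime
  have h1 := h.absN hT hr hrM (by rw [hTR, mul_assoc]; exact hrM.mul_right _)
  rw [hTR, mul_assoc] at h1
  have h2 := Nat.dvd_of_mul_dvd_mul_left h.mm_pos h1
  have hb : 1 ≤ b := by
    rcases Nat.eq_zero_or_pos b with rfl | hb
    · simp at hH
    · exact hb
  have h3 := Nat.le_of_dvd (by have := h.q_ge; omega) h2
  have h4 : R ≤ b * R := Nat.le_mul_of_pos_left _ hb
  have h5 := h.two_h
  have h6 := h.q_ge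
  refine ⟨by omega, ?_, b, mul_comm _ _, h2⟩
  rw [← h.two_mm]
  exact Nat.mul_le_mul_left _ (Nat.le_mul_of_pos_right _ hb)

/-- the bound for element orders prime to `M` -/
theorem free_dvd {N : ℕ} (he : ∃ x : S, orderOf x = N) (hN : Nat.Coprime N (mm q)) :
    N ∣ q * (q ^ 2 - 1) * (q ^ 2 - q + 1) := by
  have hq := h.q_ge
  have h6 : q ^ 2 - 1 = (q + 1) * (q - 1) := by
    have := Nat.sq_sub_sq q 1
    rwa [one_pow] at this
  have h7 : q ^ 3 + 1 = (q + 1) * (q ^ 2 - q + 1) := by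
    have h8 : q ≤ q ^ 2 := Nat.le_self_pow two_ne_zero q
    zify [h8]; ring
  rcases h.free he hN with h1 | h1 | h1 | h1
  · have h2 : (q ^ 3 + 1) / 4 ∣ q ^ 3 + 1 := ⟨4, by rw [mul_comm _ 4]; exact h.four_A.symm⟩
    refine (h1.trans h2).trans ?_
    rw [h7, h6]
    exact ⟨q * (q - 1), by ring⟩
  · exact h1.trans ⟨q * (q ^ 2 - q + 1), by ring⟩
  · have h2 : p * (q ^ 2 - 1) / 4 ∣ p * (q ^ 2 - 1) := ⟨4, by rw [mul_comm _ 4]; exact h.four_D.symm⟩
    exact ((h1.trans h2).trans (Nat.mul_dvd_mul_right h.p_dvd _)).mul_right _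
  · refine (h1.trans (Nat.mul_dvd_mul_right h.p_dvd _)).trans ?_
    rw [h6]
    exact ⟨(q - 1) * (q ^ 2 - q + 1), by ring⟩

/-- **three coprime element orders prime to `M`**: the product is less than `q⁵` -/
theorem triple {N₁ N₂ N₃ : ℕ} (h1 : ∃ x : S, orderOf x = N₁) (h2 : ∃ x : S, orderOf x = N₂)
    (h3 : ∃ x : S, orderOf x = N₃) (c1 : Nat.Coprime N₁ (mm q)) (c2 : Nat.Coprime N₂ (mm q))
    (c3 : Nat.Coprime N₃ (mm q)) (c12 : Nat.Coprime N₁ N₂) (c13 : Nat.Coprime N₁ N₃) (c23 : Nat.Coprime N₂ N₃) :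
    N₁ * N₂ * N₃ < q ^ 5 := by
  have hq := h.q_ge
  have h4 : N₁ * N₂ * N₃ ∣ q * (q ^ 2 - 1) * (q ^ 2 - q + 1) :=
    Nat.Coprime.mul_dvd_of_dvd_of_dvd (Nat.Coprime.mul_left c13 c23)
      (Nat.Coprime.mul_dvd_of_dvd_of_dvd c12 (h.free_dvd h1 c1) (h.free_dvd h2 c2)) (h.free_dvd h3 c3)
  have h8 : 7 * q ≤ q ^ 2 := by rw [sq]; exact Nat.mul_le_mul_right _ hq
  have h5 : 0 < q * (q ^ 2 - 1) * (q ^ 2 - q + 1) := by
    have : 0 < q ^ 2 - 1 := by omega
    positivity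
  refine (Nat.le_of_dvd h5 h4).trans_lt ?_
  calc q * (q ^ 2 - 1) * (q ^ 2 - q + 1) ≤ q * (q ^ 2 - 1) * q ^ 2 := Nat.mul_le_mul_left _ (by omega)
    _ < q * q ^ 2 * q ^ 2 := by
      apply Nat.mul_lt_mul_of_pos_right _ (by positivity)
      exact Nat.mul_lt_mul_of_pos_left (by omega) (by omega)
    _ = q ^ 5 := by ring

end CandU

end Cfsg.Agent.H945.UF
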