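import Cfsg.Agent.H945.UF.PairU
import Cfsg.Agent.H403.LinTor
import Cfsg.Agent.H182.PGOrth
import Cfsg.Agent.H893.UF.Psl2
import Cfsg.Agent.H528.UF.RowLin
import Cfsg.Agent.H855.UF.GF
import Cfsg.Agent.H951.UF.Row3D4
import Cfsg.Agent.H299.UF.E6
import Cfsg.Agent.H815.UF.SzRee
import Cfsg.Agent.H352.UF.TwF4
import Cfsg.Agent.H795.UF.Three
import Cfsg.Agent.H219.UF.Sp
import Cfsg.Agent.H84.UF.Orth
import Cfsg.Agent.H234.UF.TwE6Row
import Cfsg.Agent.H267.UF.E7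
import Cfsg.Agent.H267.UF.E8

set_option autoImplicit false

namespace Cfsg.Agent.H945.UF

open Cfsg Cfsg.Agent
open Cfsg.Agent.LieClassical.OrthCore Cfsg.Agent.LieClassical.OrthForms
open Cfsg.Agent.H182.Sign Cfsg.Agent.H182.Orth


theorem ne_zero_of {F : Type*} [Field F] {v p : ℕ} [CharP F v] (hv : v.Prime) (hp : p.Prime) (hvp : v ≠ p) : (p : F) ≠ 0 := by
  rw [Ne, CharP.cast_eq_zero_iff F v p, Nat.prime_dvd_prime_iff_eq hv hp]
  exact hvp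

/-- **no cross characteristic** -/
theorem CandU.not_cross {S : Type*} [Group S] [Finite S] {p q : ℕ} (h : CandU p q S) {v : ℕ} (hv : v.Prime) (hvp : v ≠ p) :
    ¬ Cfsg.IsLieTypeChar v S := by
  have hp := h.hp
  have h5 := h.h5
  rintro (⟨F, _, _, _, n, hn, h4, ⟨e⟩⟩ | ⟨F, _, _, _, m, hm, -, ⟨e⟩⟩ | ⟨F, _, _, _, n, u, hF, hn, h32, ⟨e⟩⟩ |
    ⟨F, _, _, _, m, hm, ho, ⟨e⟩⟩ | ⟨F, _, _, _, m, hm, ⟨e⟩⟩ | ⟨F, _, _, _, m, a, b, hm, hab, ⟨e⟩⟩ | ⟨F, _, _, _, hX⟩ |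
    ⟨K, _, _, _, u, hu, hX⟩ | ⟨-, hX⟩ | ⟨-, hX⟩ | ⟨-, hX⟩)
  · have hpF : (p : F) ≠ 0 := ne_zero_of hv hp hvp
    rcases Nat.lt_or_ge n 4 with h1 | h1
    · have h2 : n = 2 ∨ n = 3 := by omega
      rcases h2 with rfl | rfl
      · exact H893.UF.row_psl2 (h4 rfl) hpF (h.congr e)
      · exact H795.UF.row_psl3 hpF (h.congr e)
    · exact H528.UF.row_lin (e := true) (L := S) (n := n) (u := Fintype.card F) (F := F) ⟨e⟩ (by simp) h1 hpF h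
  · exact H219.UF.row_psp hm (ne_zero_of hv hp hvp) (h.congr e)
  · have hpF : (p : F) ≠ 0 := ne_zero_of hv hp hvp
    rcases Nat.lt_or_ge n 4 with h1 | h1
    · obtain rfl : n = 3 := by omega
      exact H795.UF.row_psu3 hF (fun h2 => h32 ⟨rfl, h2⟩) hpF (h.congr e)
    · exact H528.UF.row_lin (e := false) (L := S) (n := n) (u := u) (F := F) ⟨e⟩ (by simpa using hF) h1 hpF h
  · exact H219.UF.row_omegaOdd (by rwa [Nat.card_eq_fintype_card]) hm (ne_zero_of hv hp hvp) (h.congr e)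
  · have h1 := sg_plusForm (F := F) m
    exact H84.UF.row_orth h1 hm (q := q) (ne_zero_of hv hp hvp) (by rw [coe_plusForm]; exact h.congr e)
  · have h1 := sg_minusForm (F := F) (m - 1) hab
    rw [Nat.sub_add_cancel (by omega)] at h1
    exact H84.UF.row_orth h1 hm (q := q) (ne_zero_of hv hp hvp) (by rw [coe_minusForm]; exact h.congr e)
  · have hpF : (p : F) ≠ 0 := ne_zero_of hv hp hvp
    rcases hX with ⟨h3, ⟨e⟩⟩ | ⟨⟨e⟩⟩ | ⟨⟨e⟩⟩ | ⟨⟨e⟩⟩ | ⟨⟨e⟩⟩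
    · exact H855.UF.row_G2 h3 hpF (h.congr e)
    · exact H855.UF.row_F4 hpF (h.congr e)
    · exact H299.UF.row_E6 hpF (h.congr e)
    · exact H267.UF.row_E7 hpF (h.congr e)
    · exact H267.UF.row_E8 hpF (h.congr e)
  · have hpF : (p : K) ≠ 0 := ne_zero_of hv hp hvp
    rcases hX with ⟨hK, ⟨e⟩⟩ | ⟨hK, ⟨e⟩⟩
    · exact H234.UF.row_2E6 hu hK hpF (h.congr e)
    · exact H951.UF.row_3D4 hu hK hpF (h.congr e)
  · exact H815.UF.row_Sz (by omega) h hX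
  · exact H352.UF.row_2F4 (by omega) h hX
  · exact H815.UF.row_Ree (by omega) h hX

end Cfsg.Agent.H945.UF
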