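import Cfsg.Agent.H945.UF.Pair
import Cfsg.Prelude.Def_LieTypeChar
import Cfsg.Agent.H94.PrimeGraph

/-!
# Cross characteristic sections of groups isospectral to `PSU_4(q)`, `q ≡ 3 (mod 4)`: the interface (helper945, S3461)

`CandU p q S`: `q = p ^ k ≡ 3 (mod 4)`, `5 ≤ p`; all element orders of `S` divide `A = (q³+1)/4`, `B = (q²+1)(q-1)/4`,
`C = q²-1`, `D = p(q²-1)/4` or `E = p(q+1)`, and `M = (q²+1)/2` is an element order.

* `mm q = (q ^ 2 + 1) / 2`; `two_mm`, `mm_odd`, `mm_ge`, `not_three`, `prime_facts`, `mod_four`;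
* `abs` : an element order not prime to `mm q` divides `mm q * ((q - 1) / 2)`, so is odd;
* `free` : an element order prime to `mm q` divides `A`, `C`, `D` or `E`;
* `pair` : the pair lemma; `rest` : the lemma on the cofactor; `triple` : three coprime orders prime to `mm q`.
-/

set_option autoImplicit false

namespace Cfsg.Agent.H945.UF

open Cfsg

/-- `(q² + 1) / 2` -/
def mm (q : ℕ) : ℕ := (q ^ 2 + 1) / 2

/-- the section -/
structure CandU (p q : ℕ) (S : Type*) [Group S] : Prop where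
  hp : p.Prime
  h5 : 5 ≤ p
  ex : ∃ k : ℕ, q = p ^ k
  h4 : q % 4 = 3
  spec : ∀ x : S, orderOf x ∣ (q ^ 3 + 1) / 4 ∨ orderOf x ∣ (q ^ 2 + 1) * (q - 1) / 4 ∨ orderOf x ∣ q ^ 2 - 1 ∨
    orderOf x ∣ p * (q ^ 2 - 1) / 4 ∨ orderOf x ∣ p * (q + 1)
  elt : ∃ x : S, orderOf x = (q ^ 2 + 1) / 2

namespace CandU

variable {p q : ℕ} {S : Type*} [Group S]

theorem congr {S' : Type*} [Group S'] (h : CandU p q S) (e : S ≃* S') : CandU p q S' := by
  have key : ∀ x : S', orderOf (e.symm x) = orderOf x := fun x =>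
    orderOf_injective e.symm.toMonoidHom e.symm.injective x
  obtain ⟨x, hx⟩ := h.elt
  refine ⟨h.hp, h.h5, h.ex, h.h4, fun y => ?_, ⟨e x, ?_⟩⟩
  · rw [← key]; exact h.spec _
  · rw [← key, MulEquiv.symm_apply_apply, hx]

section arith

variable (h : CandU p q S)

include h

theorem podd : p % 2 = 1 := by
  rcases h.hp.eq_two_or_odd with h1 | h1
  · have := h.h5; omega
  · exact h1

theorem exists_k : ∃ k : ℕ, q = p ^ k ∧ k % 2 = 1 ∧ p % 4 = 3 := by
  obtain ⟨k, hk⟩ := h.ex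
  have h4 := h.h4
  have hp := h.podd
  have h1 : p % 4 = 1 ∨ p % 4 = 3 := by omega
  have hk2 : k % 2 = 1 ∧ p % 4 = 3 := by
    rw [hk, Nat.pow_mod] at h4
    rcases h1 with h1 | h1
    · rw [h1] at h4; simp at h4
    · refine ⟨?_, h1⟩
      by_contra hcon
      obtain ⟨m, rfl⟩ : ∃ m, k = 2 * m := ⟨k / 2, by omega⟩
      rw [h1, pow_mul, Nat.pow_mod] at h4
      norm_num at h4
  exact ⟨k, hk, hk2⟩

theorem seven_le_p : 7 ≤ p := by
  obtain ⟨k, -, -, h1⟩ := h.exists_k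
  have := h.h5
  omega

/-- either `p = q` or `49 p ≤ q` -/
theorem p_cases : p = q ∨ 49 * p ≤ q := by
  obtain ⟨k, h1, h2, -⟩ := h.exists_k
  have h7 := h.seven_le_p
  rcases Nat.lt_or_ge k 3 with hk | hk
  · have : k = 1 := by omega
    left; rw [h1, this, pow_one]
  · right
    obtain ⟨m, rfl⟩ : ∃ m, k = 3 + m := ⟨k - 3, by omega⟩
    rw [h1, pow_add]
    have h3 : 1 ≤ p ^ m := Nat.one_le_pow _ _ (by omega)
    calc 49 * p = 7 * 7 * p := by ring
      _ ≤ p * p * p := Nat.mul_le_mul_right _ (Nat.mul_le_mul h7 h7)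
      _ = p ^ 3 * 1 := by ring
      _ ≤ p ^ 3 * p ^ m := Nat.mul_le_mul_left _ h3

theorem q_ge : 7 ≤ q := by
  have := h.seven_le_p
  rcases h.p_cases with h1 | h1 <;> omega

theorem p_dvd : p ∣ q := by
  obtain ⟨k, h1, h2, -⟩ := h.exists_k
  rw [h1]
  exact dvd_pow_self p (by omega)

theorem two_mm : 2 * mm q = q ^ 2 + 1 := by
  have h1 : q ^ 2 % 2 = 1 := by rw [Nat.pow_mod]; have := h.h4; have : q % 2 = 1 := by omega
                                rw [this]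
  unfold mm
  omega

theorem sq_mod : q ^ 2 % 8 = 1 := by
  have h1 : q % 8 = 3 ∨ q % 8 = 7 := by have := h.h4; omega
  rcases h1 with h1 | h1 <;> rw [Nat.pow_mod, h1]

theorem mm_odd : mm q % 2 = 1 := by
  have := h.two_mm
  have := h.sq_mod
  omega

theorem mm_ge : 25 ≤ mm q := by
  have h1 := h.two_mm
  have h2 : 7 ^ 2 ≤ q ^ 2 := Nat.pow_le_pow_left h.q_ge 2
  omega

theorem mm_pos : 0 < mm q := by have := h.mm_ge; omega

theorem elt' : ∃ x : S, orderOf x = mm q := h.elt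

theorem not_three : ¬ 3 ∣ mm q := by
  intro h3
  have h1 : (q ^ 2 + 1) % 3 = 0 := by rw [← h.two_mm]; omega
  have h2 : q % 3 = 0 ∨ q % 3 = 1 ∨ q % 3 = 2 := by omega
  rcases h2 with h2 | h2 | h2 <;> rw [Nat.add_mod, Nat.pow_mod, h2] at h1 <;> norm_num at h1

/-- the divisors `A`, `B` -/
theorem four_A : 4 * ((q ^ 3 + 1) / 4) = q ^ 3 + 1 := by
  have h1 : q ^ 3 % 4 = 3 := by rw [Nat.pow_mod, h.h4]
  omega

theorem B_eq : (q ^ 2 + 1) * (q - 1) / 4 = mm q * ((q - 1) / 2) := by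
  have h4 := h.h4
  obtain ⟨t, ht⟩ : ∃ t, q - 1 = 2 * t := ⟨(q - 1) / 2, by omega⟩
  rw [← h.two_mm, ht]
  have e : 2 * mm q * (2 * t) = 4 * (mm q * t) := by ring
  rw [e, Nat.mul_div_cancel_left _ (by norm_num), Nat.mul_div_cancel_left _ (by norm_num)]

theorem two_h : 2 * ((q - 1) / 2) = q - 1 := by have := h.h4; omega

theorem h_odd : (q - 1) / 2 % 2 = 1 := by have := h.h4; omega

theorem four_D : 4 * (p * (q ^ 2 - 1) / 4) = p * (q ^ 2 - 1) := by
  have h1 := h.sq_mod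
  have h2 : 4 ∣ q ^ 2 - 1 := by omega
  exact Nat.mul_div_cancel' (h2.mul_left p)

theorem B_odd : mm q * ((q - 1) / 2) % 2 = 1 := by
  rw [Nat.mul_mod, h.mm_odd, h.h_odd]

/-- the prime divisors of `M` -/
theorem prime_facts {r : ℕ} (hr : r.Prime) (hrM : r ∣ mm q) :
    r ≠ 2 ∧ r ≠ 3 ∧ r ≠ p ∧ ¬ r ∣ q ^ 2 - 1 ∧ ¬ r ∣ q ^ 3 + 1 ∧ r ∣ q ^ 2 + 1 := by
  have hd : r ∣ q ^ 2 + 1 := by rw [← h.two_mm]; exact hrM.mul_left 2
  have hr2 : r ≠ 2 := by
    rintro rfl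
    have := h.mm_odd
    omega
  have hrp : r ≠ p := by
    rintro rfl
    have h1 : r ∣ q ^ 2 := dvd_pow h.p_dvd (by norm_num)
    have h2 := (Nat.dvd_add_right h1).1 hd
    exact hr.one_lt.ne' (Nat.dvd_one.1 h2)
  refine ⟨hr2, ?_, hrp, ?_, ?_, hd⟩
  · rintro rfl
    exact h.not_three hrM
  · intro h1
    have h2 := Nat.dvd_sub hd h1
    have h3 : q ^ 2 + 1 - (q ^ 2 - 1) = 2 := by
      have : 1 ≤ q ^ 2 := Nat.one_le_pow _ _ (by have := h.q_ge; omega)
      omega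
    rw [h3] at h2
    exact hr2 ((Nat.prime_dvd_prime_iff_eq hr Nat.prime_two).1 h2)
  · intro h1
    -- `q³ + 1 + (q - 1) = q (q² + 1)`
    have h2 : q ^ 3 + 1 + (q - 1) = q * (q ^ 2 + 1) := by
      obtain ⟨t, rfl⟩ : ∃ t, q = t + 1 := ⟨q - 1, by have := h.q_ge; omega⟩
      rw [Nat.add_sub_cancel]; ring
    have h3 : r ∣ q - 1 := (Nat.dvd_add_right h1).1 (by rw [h2]; exact hd.mul_left q)
    have h4 : q ^ 2 + 1 = (q - 1) * (q + 1) + 2 := by
      obtain ⟨t, rfl⟩ : ∃ t, q = t + 1 := ⟨q - 1, by have := h.q_ge; omega⟩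
      rw [Nat.add_sub_cancel]; ring
    rw [h4] at hd
    have h5 := (Nat.dvd_add_right (h3.mul_right (q + 1))).1 hd
    exact hr2 ((Nat.prime_dvd_prime_iff_eq hr Nat.prime_two).1 h5)

/-- the prime divisors of `M` are `≡ 1 (mod 4)` -/
theorem mod_four {r : ℕ} (hr : r.Prime) (hrM : r ∣ mm q) : r % 4 = 1 := by
  obtain ⟨h2, -, -, -, -, hd⟩ := h.prime_facts hr hrM
  have := Fact.mk hr
  have h3 : r % 4 ≠ 3 := by
    have h4 : IsSquare (-1 : ZMod r) := by
      refine ⟨(q : ZMod r), ?_⟩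
      have h5 : ((q ^ 2 + 1 : ℕ) : ZMod r) = 0 := (ZMod.natCast_eq_zero_iff _ _).2 hd
      push_cast at h5
      linear_combination (-1 : ZMod r) * h5
    exact (ZMod.exists_sq_eq_neg_one_iff (p := r)).1 h4
  have := hr.eq_two_or_odd
  omega

/-- an element order not prime to `M` -/
theorem abs {r : ℕ} (hr : r.Prime) (hrM : r ∣ mm q) {x : S} (hx : r ∣ orderOf x) :
    orderOf x ∣ mm q * ((q - 1) / 2) := by
  obtain ⟨h2, h3, hrp, h1, h1', -⟩ := h.prime_facts hr hrM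
  rcases h.spec x with hs | hs | hs | hs | hs
  · exfalso
    apply h1'
    rw [← h.four_A]
    exact (hx.trans hs).mul_left 4
  · rwa [h.B_eq] at hs
  · exact absurd (hx.trans hs) h1
  · exfalso
    have h4 : r ∣ p * (q ^ 2 - 1) := by rw [← h.four_D]; exact (hx.trans hs).mul_left 4
    rcases hr.dvd_mul.1 h4 with h5 | h5
    · exact hrp ((Nat.prime_dvd_prime_iff_eq hr h.hp).1 h5)
    · exact h1 h5
  · exfalso
    rcases hr.dvd_mul.1 (hx.trans hs) with h5 | h5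
    · exact hrp ((Nat.prime_dvd_prime_iff_eq hr h.hp).1 h5)
    · apply h1
      have h6 : q ^ 2 - 1 = (q + 1) * (q - 1) := by
        have := Nat.sq_sub_sq q 1
        rwa [one_pow] at this
      rw [h6]
      exact h5.mul_right _

/-- primes dividing `M` are not joined to 2 -/
theorem not_two_dvd {r : ℕ} (hr : r.Prime) (hrM : r ∣ mm q) {x : S} (hx : r ∣ orderOf x) : ¬ 2 ∣ orderOf x := by
  intro h2
  have h1 := h2.trans (h.abs hr hrM hx)
  have := h.B_odd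
  omega

theorem not_adj [Finite S] {r : ℕ} (hr : r.Prime) (hrM : r ∣ mm q) : ¬ H94.PG.Adj S r 2 := by
  rintro ⟨-, -, hne, x, y, hx, hy, hc⟩
  have ho : orderOf (x * y) = r * 2 := by
    rw [hc.orderOf_mul_eq_mul_orderOf_of_coprime (by rw [hx, hy]; exact (Nat.coprime_primes hr Nat.prime_two).2 hne),
      hx, hy]
  exact h.not_two_dvd hr hrM (x := x * y) (by rw [ho]; exact dvd_mul_right _ _) (by rw [ho]; exact dvd_mul_left _ _)

theorem dvd_card [Finite S] {r : ℕ} (hrM : r ∣ mm q) : r ∣ Nat.card S := by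
  obtain ⟨x, hx⟩ := h.elt'
  exact (hx ▸ hrM).trans (orderOf_dvd_natCard x)

theorem exists_prime : ∃ r : ℕ, r.Prime ∧ r ∣ mm q :=
  Nat.exists_prime_and_dvd (by have := h.mm_ge; omega)

/-- an element order divisible by a prime divisor of `M` divides `B` -/
theorem absN {N r : ℕ} (he : ∃ x : S, orderOf x = N) (hr : r.Prime) (hrM : r ∣ mm q) (hrN : r ∣ N) :
    N ∣ mm q * ((q - 1) / 2) := by
  obtain ⟨x, rfl⟩ := he
  exact h.abs hr hrM hrN

/-- an element order divisible by `M` -/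
theorem tor {T : ℕ} (he : ∃ x : S, orderOf x = T) (hT : mm q ∣ T) :
    ∃ a i : ℕ, T = a * mm q ∧ 2 * (a * i) = q - 1 ∧ a % 2 = 1 ∧ 1 ≤ a ∧ 1 ≤ i := by
  obtain ⟨r, hr, hrM⟩ := h.exists_prime
  obtain ⟨i, hi⟩ := h.absN he hr hrM (hrM.trans hT)
  obtain ⟨a, rfl⟩ := hT
  have h1 : (q - 1) / 2 = a * i := by
    rw [mul_assoc] at hi
    exact Nat.eq_of_mul_eq_mul_left h.mm_pos hi
  have h2 := h.two_h
  have h3 := h.h_odd
  rw [h1] at h2 h3
  have hq := h.q_ge
  refine ⟨a, i, mul_comm _ _, h2, ?_, ?_, ?_⟩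
  · rcases Nat.mod_two_eq_zero_or_one a with h4 | h4
    · rw [Nat.mul_mod, h4] at h3; simp at h3
    · exact h4
  · rcases Nat.eq_zero_or_pos a with rfl | h4
    · rw [zero_mul] at h2; omega
    · exact h4
  · rcases Nat.eq_zero_or_pos i with rfl | h4
    · rw [mul_zero] at h2; omega
    · exact h4

theorem le_B {T : ℕ} (he : ∃ x : S, orderOf x = T) (hT : mm q ∣ T) : T ≤ mm q * ((q - 1) / 2) := by
  obtain ⟨r, hr, hrM⟩ := h.exists_prime
  refine Nat.le_of_dvd ?_ (h.absN he hr hrM (hrM.trans hT))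
  have := h.q_ge
  have := h.mm_pos
  have : 0 < (q - 1) / 2 := by omega
  positivity

/-- an element order prime to `M` -/
theorem free {N : ℕ} (he : ∃ x : S, orderOf x = N) (hN : Nat.Coprime N (mm q)) :
    N ∣ (q ^ 3 + 1) / 4 ∨ N ∣ q ^ 2 - 1 ∨ N ∣ p * (q ^ 2 - 1) / 4 ∨ N ∣ p * (q + 1) := by
  obtain ⟨x, rfl⟩ := he
  rcases h.spec x with hs | hs | hs | hs | hs
  · exact Or.inl hs
  · right; left
    rw [h.B_eq] at hs
    have h1 := hN.dvd_of_dvd_mul_left hs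
    have h6 : q ^ 2 - 1 = (q + 1) * (q - 1) := by
      have := Nat.sq_sub_sq q 1
      rwa [one_pow] at this
    rw [h6, ← h.two_h]
    exact (h1.mul_left 2).mul_left _
  · exact Or.inr (Or.inl hs)
  · exact Or.inr (Or.inr (Or.inl hs))
  · exact Or.inr (Or.inr (Or.inr hs))

end arith

end CandU

end Cfsg.Agent.H945.UF
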