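import Mathlib

/-!
# The pair lemma (helper945, S3461): arithmetic

`w = q² + 1`, `2 T = a w` with `a` odd, `a ∣ q - 1`; `N` divides `(q³+1)/4`, `q² - 1`, `p (q²-1) / 4` or `p (q+1)`, and
`T`, `N` are close: `(T - N)² ≤ 5 T`. Then `(T, N)` is one of three explicit types or `q ≤ 23`.
-/

set_option autoImplicit false

namespace Cfsg.Agent.H945.UF

theorem sq_ge {z c : ℤ} (hc : 0 ≤ c) (h : z ≤ -c) : c ^ 2 ≤ z ^ 2 := by nlinarith

/-- `N ∣ q² - 1` -/
theorem pairC {q a m N : ℤ} (hq : 27 ≤ q) (ha : 1 ≤ a) (hao : a % 2 = 1) (hm : 1 ≤ m) (h : N * m = q ^ 2 - 1)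
    (hK : (a * (q ^ 2 + 1) - 2 * N) ^ 2 ≤ 10 * (a * (q ^ 2 + 1))) : a = 1 ∧ 2 * N = q ^ 2 - 1 := by
  obtain ⟨w, hw⟩ : ∃ w, w = q ^ 2 + 1 := ⟨_, rfl⟩
  have hw1 : 730 ≤ w := by rw [hw]; nlinarith
  rw [← hw] at hK
  have h' : N * m = w - 2 := by rw [h, hw]; ring
  have h1 : m * (a * w - 2 * N) = (m * a - 2) * w + 4 := by linear_combination (-2) * h'
  have h2 : ((m * a - 2) * w + 4) ^ 2 ≤ 10 * (m ^ 2 * a * w) := by
    rw [← h1, mul_pow]
    have := mul_le_mul_of_nonneg_left hK (sq_nonneg m)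
    nlinarith
  by_cases hs : m * a - 2 = 0
  · have hma : m * a = 2 := by omega
    have ha1 : a = 1 := by
      have h3 : a ∣ 2 := ⟨m, by rw [← hma]; ring⟩
      have h4 := Int.le_of_dvd (by norm_num) h3
      interval_cases a
      · rfl
      · omega
    subst ha1
    rw [mul_one] at hma
    subst hma
    exact ⟨rfl, by linarith⟩
  · exfalso
    have h3 : m ^ 2 * a ≤ 9 * (m * a - 2) ^ 2 := by
      rcases eq_or_lt_of_le ha with ha1 | ha1
      · rw [← ha1] at hs ⊢
        rcases le_or_gt 3 m with h3 | h3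
        · nlinarith
        · have : m = 1 ∨ m = 2 := by omega
          rcases this with rfl | rfl
          · norm_num
          · omega
      · have ha3 : 3 ≤ a := by omega
        have h5 : 3 ≤ m * a := by nlinarith
        have h6 : m ^ 2 * a ≤ (m * a) ^ 2 := by
          have : m ^ 2 * a * 1 ≤ m ^ 2 * a * a := mul_le_mul_of_nonneg_left ha (by positivity)
          nlinarith
        nlinarith
    obtain ⟨s, hs'⟩ : ∃ s, s = m * a - 2 := ⟨_, rfl⟩
    rw [← hs'] at h2 h3 hs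
    have h4 : (s * w + 4) ^ 2 ≤ 90 * s ^ 2 * w := by nlinarith
    have h5 : s ^ 2 * w * (w - 90) ≤ - (8 * (s * w)) := by nlinarith
    rcases lt_or_gt_of_ne hs with h6 | h6
    · have h7 : s * w * (w - 90) * s ≤ -8 * (s * w) := by nlinarith
      have h8 : s * w < 0 := mul_neg_of_neg_of_pos h6 (by omega)
      have h9 : -8 ≤ (w - 90) * s := by
        by_contra hcon
        push Not at hcon
        nlinarith
      nlinarith
    · have h7 : 0 < s * w := by positivity
      nlinarith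

/-- `N ∣ (q³ + 1) / 4` -/
theorem pairA {q a i j N : ℤ} (hq : 27 ≤ q) (h4 : q % 4 = 3) (ha : 1 ≤ a) (hi : 1 ≤ i) (hai : 2 * (a * i) = q - 1) (hj : 1 ≤ j)
    (h : N * (4 * j) = q ^ 3 + 1) (hK : (a * (q ^ 2 + 1) - 2 * N) ^ 2 ≤ 10 * (a * (q ^ 2 + 1))) : False := by
  obtain ⟨w, hw⟩ : ∃ w, w = q ^ 2 + 1 := ⟨_, rfl⟩
  have hw1 : 730 ≤ w := by rw [hw]; nlinarith
  rw [← hw] at hK
  obtain ⟨z, hz⟩ : ∃ z, z = 2 * (a * (j - i)) := ⟨_, rfl⟩
  have hzj : 2 * (a * j) = q - 1 + z := by rw [hz]; linarith [mul_sub a j i]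
  have h1 : 2 * j * (a * w - 2 * N) = z * w - (q ^ 2 - q + 2) := by
    have : 2 * j * (a * w - 2 * N) = 2 * (a * j) * w - (q ^ 3 + 1) := by linear_combination (-1) * h
    rw [this, hzj, hw]; ring
  have h2 : a * (z * w - (q ^ 2 - q + 2)) ^ 2 ≤ 10 * (q - 1 + z) ^ 2 * w := by
    rw [← h1, ← hzj]
    have := mul_le_mul_of_nonneg_left hK (by positivity : 0 ≤ a * (4 * j ^ 2))
    nlinarith
  have hpos : 0 < q - 1 + z := by rw [← hzj]; positivity
  have hqw : q ^ 2 = w - 1 := by rw [hw]; ring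
  rcases lt_trichotomy z 0 with hz0 | hz0 | hz0
  · -- z < 0
    have hz2 : z ≤ -2 := by omega
    have h3 : (z * w - (q ^ 2 - q + 2)) ^ 2 ≤ 10 * (q - 1 + z) ^ 2 * w :=
      (le_mul_of_one_le_left (sq_nonneg _) ha).trans h2
    have h5 : 0 ≤ q ^ 2 - q + 2 := by
      have : q ^ 2 = q * q := sq q
      have : q * 1 ≤ q * q := mul_le_mul_of_nonneg_left (by omega) (by omega)
      linarith
    have h6 : z * w < 0 := mul_neg_of_neg_of_pos hz0 (by omega)
    have h7 : (z * w) ^ 2 ≤ 10 * (q - 1 + z) ^ 2 * w := by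
      refine le_trans ?_ h3
      have : (z * w - (q ^ 2 - q + 2)) ^ 2 - (z * w) ^ 2 = (q ^ 2 - q + 2) * (q ^ 2 - q + 2 - 2 * (z * w)) := by ring
      have : 0 ≤ (q ^ 2 - q + 2) * (q ^ 2 - q + 2 - 2 * (z * w)) := mul_nonneg h5 (by linarith)
      linarith
    have h8 : (q - 1 + z) ^ 2 ≤ (q - 3) ^ 2 := pow_le_pow_left₀ hpos.le (by omega) 2
    have h9 : z ^ 2 * w ≤ 10 * (q - 3) ^ 2 := by
      have h10 : z ^ 2 * w * w ≤ 10 * (q - 3) ^ 2 * w := by
        have h11 : (z * w) ^ 2 = z ^ 2 * w * w := by ring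
        rw [h11] at h7
        have h12 := mul_le_mul_of_nonneg_right h8 (by omega : (0:ℤ) ≤ w)
        linarith
      exact le_of_mul_le_mul_right h10 (by omega)
    have hz3 : -4 < z := by
      by_contra hcon
      push Not at hcon
      have h16 : 4 ^ 2 ≤ z ^ 2 := sq_ge (by norm_num) hcon
      have h17 := mul_le_mul_of_nonneg_right h16 (by omega : (0:ℤ) ≤ w)
      have h18 : (q - 3) ^ 2 ≤ q ^ 2 := pow_le_pow_left₀ (by omega) (by omega) 2
      omega
    have hz4 : z = -2 := by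
      have : z % 2 = 0 := by omega
      omega
    subst hz4
    have ha1 : a * (i - j) = 1 := by linarith [mul_sub a j i, mul_sub a i j]
    have ha2 : a = 1 := by
      rcases Int.eq_one_or_neg_one_of_mul_eq_one ha1 with h | h <;> omega
    subst ha2
    have hj2 : 2 * j = q - 3 := by linarith
    have h11 : (q - 3) ∣ 28 := by
      have : (q - 3) ∣ q ^ 3 + 1 := ⟨2 * N, by rw [← h, ← hj2]; ring⟩
      have h12 : q ^ 3 + 1 = (q - 3) * (q ^ 2 + 3 * q + 9) + 28 := by ring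
      rw [h12] at this
      exact (dvd_add_right (dvd_mul_right _ _)).1 this
    have h13 := Int.le_of_dvd (by norm_num) h11
    have h14 : q ≤ 31 := by omega
    have h15 : q = 27 ∨ q = 31 := by omega
    rcases h15 with rfl | rfl
    · norm_num at h11
    · have : j = 14 := by omega
      subst this
      have : N = 532 := by omega
      subst this
      norm_num [hw] at hK
  · -- z = 0
    subst hz0
    have hij : j = i := by
      have : a * (j - i) = 0 := by omega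
      rcases mul_eq_zero.1 this with h | h <;> omega
    subst hij
    have h3 : j ∣ 2 := by
      have h5 : j ∣ q - 1 := ⟨2 * a, by rw [← hai]; ring⟩
      have h6 : j ∣ q ^ 3 + 1 := ⟨4 * N, by rw [← h]; ring⟩
      have h7 : q ^ 3 + 1 = (q - 1) * (q ^ 2 + q + 1) + 2 := by ring
      rw [h7] at h6
      exact (dvd_add_right (h5.mul_right _)).1 h6
    have h5 := Int.le_of_dvd (by norm_num) h3
    have h6 : j = 1 := by
      have : j = 1 ∨ j = 2 := by omega
      rcases this with h | h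
      · exact h
      · subst h; omega
    subst h6
    have ha3 : 2 * a = q - 1 := by linarith
    have h7 : (q ^ 2 - q + 2) ^ 2 * (2 * a) ≤ 20 * (q - 1) ^ 2 * w := by
      have h8 : a * (0 * w - (q ^ 2 - q + 2)) ^ 2 = a * (q ^ 2 - q + 2) ^ 2 := by ring
      rw [h8, add_zero] at h2
      linarith
    rw [ha3] at h7
    have h8 : (q ^ 2 - q + 2) ^ 2 ≤ 20 * (q - 1) * w := by
      have h9 : (q ^ 2 - q + 2) ^ 2 * (q - 1) ≤ 20 * (q - 1) * w * (q - 1) := by linarith
      exact le_of_mul_le_mul_right h9 (by omega)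
    rw [hw] at h8
    obtain ⟨t, rfl⟩ : ∃ t, q = t + 27 := ⟨q - 27, by ring⟩
    have ht : 0 ≤ t := by omega
    have : 0 < ((t + 27) ^ 2 - (t + 27) + 2) ^ 2 - 20 * (t + 27 - 1) * ((t + 27) ^ 2 + 1) := by
      ring_nf
      positivity
    linarith
  · -- z > 0
    have hz2 : 2 ≤ z := by omega
    have h3 : (z - 1) * w ≤ z * w - (q ^ 2 - q + 2) := by
      have : (z - 1) * w = z * w - w := by ring
      rw [this, hw]; linarith
    have h5 : 0 ≤ (z - 1) * w := by
      have : 0 ≤ z - 1 := by omega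
      positivity
    have h6 : ((z - 1) * w) ^ 2 ≤ (z * w - (q ^ 2 - q + 2)) ^ 2 := pow_le_pow_left₀ h5 h3 2
    have h7 : (z - 1) ^ 2 * w ≤ 10 * (q - 1 + z) ^ 2 := by
      have h8 : (z - 1) ^ 2 * w * w ≤ 10 * (q - 1 + z) ^ 2 * w := by
        have h9 := h6.trans ((le_mul_of_one_le_left (sq_nonneg _) ha).trans h2)
        have h10 : ((z - 1) * w) ^ 2 = (z - 1) ^ 2 * w * w := by ring
        rwa [h10] at h9
      exact le_of_mul_le_mul_right h8 (by omega)
    have hz6 : z < 6 := by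
      by_contra hcon
      push Not at hcon
      have h8 : (5 * ((z - 1) * q)) ^ 2 < (16 * (q - 1 + z)) ^ 2 := by
        have h9 : (z - 1) ^ 2 * q ^ 2 ≤ (z - 1) ^ 2 * w := mul_le_mul_of_nonneg_left (by omega) (sq_nonneg _)
        have h10 : 0 < (q - 1 + z) ^ 2 := by positivity
        have h11 : (5 * ((z - 1) * q)) ^ 2 = 25 * ((z - 1) ^ 2 * q ^ 2) := by ring
        have h12 : (16 * (q - 1 + z)) ^ 2 = 256 * (q - 1 + z) ^ 2 := by ring
        rw [h11, h12]; linarith
      have h9 : 5 * ((z - 1) * q) < 16 * (q - 1 + z) := lt_of_pow_lt_pow_left₀ 2 (by positivity) h8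
      have h10 : 27 * (5 * z - 21) ≤ q * (5 * z - 21) := mul_le_mul_of_nonneg_right hq (by omega)
      linarith
    have hz4 : z = 2 ∨ z = 4 := by omega
    rcases hz4 with rfl | rfl
    · have ha1 : a * (j - i) = 1 := by omega
      have ha2 : a = 1 := by
        rcases Int.eq_one_or_neg_one_of_mul_eq_one ha1 with h | h <;> omega
      subst ha2
      have hj2 : 2 * j = q + 1 := by linarith
      have h10 : (q + 1) * (2 * N) = (q + 1) * (q ^ 2 - q + 1) := by
        have : (q + 1) * (2 * N) = N * (4 * j) := by rw [← hj2]; ring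
        rw [this, h]; ring
      have h11 : 2 * N = q ^ 2 - q + 1 := mul_left_cancel₀ (by omega) h10
      have h12 : (q ^ 2 - q) % 2 = 0 := by
        have : q ^ 2 - q = q * (q - 1) := by ring
        rw [this]
        have : (q - 1) % 2 = 0 := by omega
        rw [Int.mul_emod, this]; simp
      omega
    · have ha1 : a * (j - i) = 2 := by omega
      have ha2 : a = 1 := by
        have h8 : a ∣ 2 := ⟨_, ha1.symm⟩
        have h9 := Int.le_of_dvd (by norm_num) h8
        have : a = 1 ∨ a = 2 := by omega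
        rcases this with h | h
        · exact h
        · subst h; omega
      subst ha2
      have hj2 : 2 * j = q + 3 := by linarith
      have h11 : (q + 3) ∣ 26 := by
        have h8 : (q + 3) ∣ q ^ 3 + 1 := ⟨2 * N, by rw [← h, ← hj2]; ring⟩
        have h12 : q ^ 3 + 1 = (q + 3) * (q ^ 2 - 3 * q + 9) - 26 := by ring
        rw [h12] at h8
        exact (dvd_sub_right (dvd_mul_right _ _)).1 h8
      have h13 := Int.le_of_dvd (by norm_num) h11
      omega

/-- `a ∣ q - 1`, `a ∣ q - 1 + z`, `a` odd -/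
theorem eq_one_of_dvd {a z c : ℤ} (ha : 1 ≤ a) (hao : a % 2 = 1) (h1 : a ∣ z) (h2 : z = c) (hc : c = 2 ∨ c = 4 ∨ c = -2) :
    a = 1 := by
  subst h2
  have h3 : a ∣ 4 := by
    rcases hc with h | h | h <;> rw [h] at h1
    · exact h1.trans (by norm_num)
    · exact h1
    · exact h1.trans (by norm_num)
  have h4 := Int.le_of_dvd (by norm_num) h3
  interval_cases a
  · rfl
  · omega
  · norm_num at h3
  · omega

/-- `N ∣ p (q² - 1) / 4`, `q = p` -/
theorem pairD {q a i j N : ℤ} (hq : 27 ≤ q) (hq27 : q ≠ 27) (h4 : q % 4 = 3) (ha : 1 ≤ a) (hao : a % 2 = 1)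
    (hai : 2 * (a * i) = q - 1) (hj : 1 ≤ j)
    (h : N * (4 * j) = q * (q ^ 2 - 1)) (hK : (a * (q ^ 2 + 1) - 2 * N) ^ 2 ≤ 10 * (a * (q ^ 2 + 1))) :
    (a = 1 ∧ 2 * N = q * (q - 1)) ∨ 2 * N = a * (q * (q + 1)) := by
  obtain ⟨w, hw⟩ : ∃ w, w = q ^ 2 + 1 := ⟨_, rfl⟩
  have hw1 : 730 ≤ w := by rw [hw]; nlinarith
  have hw0 : (0 : ℤ) ≤ w := by omega
  rw [← hw] at hK
  obtain ⟨s, hs⟩ : ∃ s, s = 2 * (a * j) - q := ⟨_, rfl⟩
  have hsj : 2 * (a * j) = q + s := by rw [hs]; ring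
  have h1 : 2 * j * (a * w - 2 * N) = s * w + 2 * q := by
    have : 2 * j * (a * w - 2 * N) = 2 * (a * j) * w - q * (q ^ 2 - 1) := by linear_combination (-1) * h
    rw [this, hsj, hw]; ring
  have h2 : a * (s * w + 2 * q) ^ 2 ≤ 10 * (q + s) ^ 2 * w := by
    rw [← h1, ← hsj]
    have := mul_le_mul_of_nonneg_left hK (by positivity : 0 ≤ a * (4 * j ^ 2))
    nlinarith
  have h3 : (s * w + 2 * q) ^ 2 ≤ 10 * (q + s) ^ 2 * w := (le_mul_of_one_le_left (sq_nonneg _) ha).trans h2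
  have hpos : 0 < q + s := by rw [← hsj]; positivity
  have hqw : q ^ 2 ≤ w := by rw [hw]; linarith
  have had : a ∣ q - 1 := ⟨2 * i, by rw [← hai]; ring⟩
  have hdv : a ∣ s + 1 := by
    have h5 : a ∣ q + s := ⟨2 * j, by rw [← hsj]; ring⟩
    have h6 : s + 1 = q + s - (q - 1) := by ring
    rw [h6]
    exact dvd_sub h5 had
  have hodd : s % 2 = 1 := by omega
  rcases le_or_gt 1 s with hs1 | hs1
  · -- s > 0
    have h5 : (s * w) ^ 2 ≤ 10 * (q + s) ^ 2 * w :=
      (pow_le_pow_left₀ (by positivity) (by linarith) 2).trans h3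
    have h7 : s ^ 2 * w ≤ 10 * (q + s) ^ 2 := by
      have h8 : s ^ 2 * w * w ≤ 10 * (q + s) ^ 2 * w := by
        have h9 : (s * w) ^ 2 = s ^ 2 * w * w := by ring
        rwa [h9] at h5
      exact le_of_mul_le_mul_right h8 (by omega)
    have hs5 : s < 5 := by
      by_contra hcon
      push Not at hcon
      have h8 : (5 * (s * q)) ^ 2 < (16 * (q + s)) ^ 2 := by
        have h9 : s ^ 2 * q ^ 2 ≤ s ^ 2 * w := mul_le_mul_of_nonneg_left hqw (sq_nonneg _)
        have h10 : 0 < (q + s) ^ 2 := by positivity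
        have h11 : (5 * (s * q)) ^ 2 = 25 * (s ^ 2 * q ^ 2) := by ring
        have h12 : (16 * (q + s)) ^ 2 = 256 * (q + s) ^ 2 := by ring
        rw [h11, h12]; linarith
      have h9 : 5 * (s * q) < 16 * (q + s) := lt_of_pow_lt_pow_left₀ 2 (by positivity) h8
      have h10 : 27 * (5 * s - 16) ≤ q * (5 * s - 16) := mul_le_mul_of_nonneg_right hq (by omega)
      linarith
    have hs3 : s = 1 ∨ s = 3 := by omega
    rcases hs3 with rfl | rfl
    · left
      have ha1 := eq_one_of_dvd ha hao hdv (c := 2) (by norm_num) (by norm_num)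
      subst ha1
      refine ⟨rfl, ?_⟩
      have hj2 : 2 * j = q + 1 := by linarith
      have h10 : (q + 1) * (2 * N) = (q + 1) * (q * (q - 1)) := by
        have : (q + 1) * (2 * N) = N * (4 * j) := by rw [← hj2]; ring
        rw [this, h]; ring
      exact mul_left_cancel₀ (by omega) h10
    · exfalso
      have ha1 := eq_one_of_dvd ha hao hdv (c := 4) (by norm_num) (by norm_num)
      subst ha1
      have hj2 : 2 * j = q + 3 := by linarith
      have h11 : (q + 3) ∣ 24 := by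
        have h8 : (q + 3) ∣ q * (q ^ 2 - 1) := ⟨2 * N, by rw [← h, ← hj2]; ring⟩
        have h12 : q * (q ^ 2 - 1) = (q + 3) * (q ^ 2 - 3 * q + 8) - 24 := by ring
        rw [h12] at h8
        exact (dvd_sub_right (dvd_mul_right _ _)).1 h8
      have h13 := Int.le_of_dvd (by norm_num) h11
      omega
  · -- s < 0
    have hs2 : s ≤ -1 := by omega
    have hs5 : -5 < s := by
      by_contra hcon
      push Not at hcon
      have h5 : (s + 1) * w ≤ 0 := mul_nonpos_of_nonpos_of_nonneg (by omega) hw0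
      have h6 : s * w + 2 * q ≤ (s + 1) * w := by
        have : 2 * q ≤ w := by rw [hw]; nlinarith
        linarith
      have h7 : ((s + 1) * w) ^ 2 ≤ (s * w + 2 * q) ^ 2 := by
        have h8 := pow_le_pow_left₀ (by linarith : 0 ≤ -((s + 1) * w)) (neg_le_neg h6) 2
        rwa [neg_sq, neg_sq] at h8
      have h8 : (s + 1) ^ 2 * w ≤ 10 * (q + s) ^ 2 := by
        have h9 : (s + 1) ^ 2 * w * w ≤ 10 * (q + s) ^ 2 * w := by
          have h10 : ((s + 1) * w) ^ 2 = (s + 1) ^ 2 * w * w := by ring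
          rw [← h10]
          exact h7.trans h3
        exact le_of_mul_le_mul_right h9 (by omega)
      have h9 : 4 ^ 2 ≤ (s + 1) ^ 2 := sq_ge (by norm_num) (by omega)
      have h10 := mul_le_mul_of_nonneg_right h9 hw0
      have h11 : (q + s) ^ 2 ≤ q ^ 2 := pow_le_pow_left₀ hpos.le (by omega) 2
      omega
    have hs3 : s = -1 ∨ s = -3 := by omega
    rcases hs3 with rfl | rfl
    · right
      have h10 : 2 * (a * (j - i)) = 0 := by rw [mul_sub]; linarith
      have hij : j = i := by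
        have : a * (j - i) = 0 := by omega
        rcases mul_eq_zero.1 this with h | h <;> omega
      subst hij
      have h11 : (q - 1) * (2 * N) = (q - 1) * (a * (q * (q + 1))) := by
        have : (q - 1) * (2 * N) = a * (N * (4 * j)) := by rw [← hai]; ring
        rw [this, h]; ring
      exact mul_left_cancel₀ (by omega) h11
    · exfalso
      have ha1 := eq_one_of_dvd ha hao hdv (c := -2) (by norm_num) (by norm_num)
      subst ha1
      have hj2 : 2 * j = q - 3 := by linarith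
      have h11 : (q - 3) ∣ 24 := by
        have h8 : (q - 3) ∣ q * (q ^ 2 - 1) := ⟨2 * N, by rw [← h, ← hj2]; ring⟩
        have h12 : q * (q ^ 2 - 1) = (q - 3) * (q ^ 2 + 3 * q + 8) + 24 := by ring
        rw [h12] at h8
        exact (dvd_add_right (dvd_mul_right _ _)).1 h8
      have h13 := Int.le_of_dvd (by norm_num) h11
      omega

/-- `N ∣ p (q² - 1) / 4`, `p³ ≤ q` -/
theorem pairD' {p q a j N : ℤ} (hq : 27 ≤ q) (hp : 7 ≤ p) (hpq : 49 * p ≤ q) (ha : 1 ≤ a) (hj : 1 ≤ j)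
    (h : N * (4 * j) = p * (q ^ 2 - 1)) (hK : (a * (q ^ 2 + 1) - 2 * N) ^ 2 ≤ 10 * (a * (q ^ 2 + 1)))
    (hpo : p % 2 = 1) : False := by
  obtain ⟨w, hw⟩ : ∃ w, w = q ^ 2 + 1 := ⟨_, rfl⟩
  have hw1 : 730 ≤ w := by rw [hw]; nlinarith
  have hw0 : (0 : ℤ) ≤ w := by omega
  rw [← hw] at hK
  obtain ⟨s, hs⟩ : ∃ s, s = 2 * (a * j) - p := ⟨_, rfl⟩
  have hsj : 2 * (a * j) = p + s := by rw [hs]; ring
  have h1 : 2 * j * (a * w - 2 * N) = s * w + 2 * p := by
    have : 2 * j * (a * w - 2 * N) = 2 * (a * j) * w - p * (q ^ 2 - 1) := by linear_combination (-1) * h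
    rw [this, hsj, hw]; ring
  have h2 : a * (s * w + 2 * p) ^ 2 ≤ 10 * (p + s) ^ 2 * w := by
    rw [← h1, ← hsj]
    have := mul_le_mul_of_nonneg_left hK (by positivity : 0 ≤ a * (4 * j ^ 2))
    nlinarith
  have h3 : (s * w + 2 * p) ^ 2 ≤ 10 * (p + s) ^ 2 * w := (le_mul_of_one_le_left (sq_nonneg _) ha).trans h2
  have hpos : 0 < p + s := by rw [← hsj]; positivity
  have hqw : q ^ 2 ≤ w := by rw [hw]; linarith
  have hodd : s % 2 = 1 := by omega
  rcases le_or_gt 1 s with hs1 | hs1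
  · have h5 : (s * w) ^ 2 ≤ 10 * (p + s) ^ 2 * w :=
      (pow_le_pow_left₀ (by positivity) (by linarith) 2).trans h3
    have h7 : s ^ 2 * w ≤ 10 * (p + s) ^ 2 := by
      have h8 : s ^ 2 * w * w ≤ 10 * (p + s) ^ 2 * w := by
        have h9 : (s * w) ^ 2 = s ^ 2 * w * w := by ring
        rwa [h9] at h5
      exact le_of_mul_le_mul_right h8 (by omega)
    have h8 : (5 * (s * q)) ^ 2 < (16 * (p + s)) ^ 2 := by
      have h9 : s ^ 2 * q ^ 2 ≤ s ^ 2 * w := mul_le_mul_of_nonneg_left hqw (sq_nonneg _)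
      have h10 : 0 < (p + s) ^ 2 := by positivity
      have h11 : (5 * (s * q)) ^ 2 = 25 * (s ^ 2 * q ^ 2) := by ring
      have h12 : (16 * (p + s)) ^ 2 = 256 * (p + s) ^ 2 := by ring
      rw [h11, h12]; linarith
    have h9 : 5 * (s * q) < 16 * (p + s) := lt_of_pow_lt_pow_left₀ 2 (by positivity) h8
    have h10 : 1 * (5 * q - 16) ≤ s * (5 * q - 16) := mul_le_mul_of_nonneg_right hs1 (by omega)
    linarith
  · have h5 : s * w ≤ -1 * w := mul_le_mul_of_nonneg_right (by omega) hw0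
    have h6 : 4 * p ≤ w := by rw [hw]; nlinarith
    have h7 : (w - 2 * p) ^ 2 ≤ (s * w + 2 * p) ^ 2 := by
      have h8 := pow_le_pow_left₀ (by linarith : 0 ≤ w - 2 * p) (by linarith : w - 2 * p ≤ -(s * w + 2 * p)) 2
      rwa [neg_sq] at h8
    have h8 : (p + s) ^ 2 ≤ p ^ 2 := pow_le_pow_left₀ hpos.le (by omega) 2
    have h9 : w * w ≤ 40 * p ^ 2 * w := by
      have h10 : w * w ≤ 4 * (w - 2 * p) ^ 2 := by nlinarith
      have h11 := mul_le_mul_of_nonneg_right h8 hw0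
      linarith
    have h10 : w ≤ 40 * p ^ 2 := le_of_mul_le_mul_right h9 (by omega)
    have h11 : (49 * p) ^ 2 ≤ q ^ 2 := pow_le_pow_left₀ (by omega) hpq 2
    have h12 : 0 < p ^ 2 := by positivity
    nlinarith

/-- `N ∣ p (q + 1)`, `p = q` -/
theorem pairE {q a j N : ℤ} (hq : 27 ≤ q) (ha : 1 ≤ a) (hao : a % 2 = 1) (hj : 1 ≤ j)
    (h : N * j = q * (q + 1)) (hK : (a * (q ^ 2 + 1) - 2 * N) ^ 2 ≤ 10 * (a * (q ^ 2 + 1))) :
    2 * N = a * (q * (q + 1)) := by
  obtain ⟨w, hw⟩ : ∃ w, w = q ^ 2 + 1 := ⟨_, rfl⟩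
  have hw1 : 730 ≤ w := by rw [hw]; nlinarith
  have hw0 : (0 : ℤ) ≤ w := by omega
  rw [← hw] at hK
  obtain ⟨s, hs⟩ : ∃ s, s = a * j - 2 := ⟨_, rfl⟩
  have hsj : a * j = s + 2 := by rw [hs]; ring
  have h1 : j * (a * w - 2 * N) = s * w - 2 * (q - 1) := by
    have : j * (a * w - 2 * N) = a * j * w - 2 * (q * (q + 1)) := by linear_combination (-2) * h
    rw [this, hsj, hw]; ring
  have h2 : a * (s * w - 2 * (q - 1)) ^ 2 ≤ 10 * (s + 2) ^ 2 * w := by
    rw [← h1, ← hsj]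
    have := mul_le_mul_of_nonneg_left hK (by positivity : 0 ≤ a * j ^ 2)
    nlinarith
  have h3 : (s * w - 2 * (q - 1)) ^ 2 ≤ 10 * (s + 2) ^ 2 * w := (le_mul_of_one_le_left (sq_nonneg _) ha).trans h2
  have hpos : 0 < s + 2 := by rw [← hsj]; positivity
  have hqw : 20 * (q - 1) ≤ w := by rw [hw]; nlinarith
  rcases lt_trichotomy s 0 with h0 | h0 | h0
  · exfalso
    have : s = -1 := by omega
    subst this
    have h4 : w ^ 2 ≤ (-1 * w - 2 * (q - 1)) ^ 2 := by
      have : (-1 * w - 2 * (q - 1)) ^ 2 = (w + 2 * (q - 1)) ^ 2 := by ring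
      rw [this]
      exact pow_le_pow_left₀ hw0 (by linarith) 2
    nlinarith
  · subst h0
    have h5 : a ∣ 2 := ⟨j, by rw [hsj]; norm_num⟩
    have h6 := eq_one_of_dvd ha hao h5 rfl (by norm_num)
    subst h6
    have : j = 2 := by omega
    subst this
    linarith
  · exfalso
    have h4 : 0 ≤ 9 * (s * w) := by positivity
    have h5 : 9 * (s * w) ≤ 10 * (s * w - 2 * (q - 1)) := by
      have : w ≤ s * w := le_mul_of_one_le_left hw0 h0
      linarith
    have h6 := pow_le_pow_left₀ h4 h5 2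
    have h7 : 81 * (s ^ 2 * w) * w ≤ 1000 * (s + 2) ^ 2 * w := by
      have h8 : (9 * (s * w)) ^ 2 = 81 * (s ^ 2 * w) * w := by ring
      have h9 : (10 * (s * w - 2 * (q - 1))) ^ 2 = 100 * (s * w - 2 * (q - 1)) ^ 2 := by ring
      rw [h8, h9] at h6
      linarith
    have h8 : 81 * (s ^ 2 * w) ≤ 1000 * (s + 2) ^ 2 := le_of_mul_le_mul_right h7 (by omega)
    have h9 : (s + 2) ^ 2 ≤ 9 * s ^ 2 := by nlinarith
    have h10 : s ^ 2 * 730 ≤ s ^ 2 * w := mul_le_mul_of_nonneg_left hw1 (sq_nonneg _)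
    have h11 : 0 < s ^ 2 := by positivity
    linarith

/-- `N ∣ p (q + 1)`, `p³ ≤ q` -/
theorem pairE' {p q a N : ℤ} (hq : 27 ≤ q) (hpq : 49 * p ≤ q) (ha : 1 ≤ a) (hN : 0 ≤ N)
    (h : N ≤ p * (q + 1)) (hK : (a * (q ^ 2 + 1) - 2 * N) ^ 2 ≤ 10 * (a * (q ^ 2 + 1))) : False := by
  obtain ⟨w, hw⟩ : ∃ w, w = q ^ 2 + 1 := ⟨_, rfl⟩
  have hw1 : 730 ≤ w := by rw [hw]; nlinarith
  rw [← hw] at hK
  obtain ⟨t, ht⟩ : ∃ t, t = a * w := ⟨_, rfl⟩
  have h1 : w ≤ t := by rw [ht]; exact le_mul_of_one_le_left (by omega) ha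
  rw [← ht] at hK
  have h2 : 49 * N ≤ q * (q + 1) := by nlinarith
  have h3 : q * (q + 1) ≤ 2 * w := by rw [hw]; nlinarith
  have h4 : t ≤ 2 * (t - 2 * N) := by linarith
  have h5 := pow_le_pow_left₀ (by omega : 0 ≤ t) h4 2
  nlinarith

end Cfsg.Agent.H945.UF
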